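import Groth.Agent.Dix.Cast5
import Groth.Agent.S1572
import Groth.Agent.S2821

/-!
# Affine opens in general position

`X` a Noetherian scheme in which every finite set of closed points lies in an affine open, of dimension `≤ n`: there
is a sequence of non-empty affine opens such that no point is missed by more than `n` of them.
-/

set_option autoImplicit false
universe u
open CategoryTheory CategoryTheory.Limits AlgebraicGeometry TopologicalSpace

namespace K948.GenPos

variable {X : Scheme.{u}}

/-- Finitely many closed points whose open neighbourhoods meet every component of `Z`. -/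
theorem exists_points [IsNoetherian X] (Z : Set X) (hZ : IsClosed Z) :
    ∃ S : Set X, S.Finite ∧ (∀ x ∈ S, IsClosed ({x} : Set X)) ∧
      ∀ U : X.Opens, S ⊆ (U : Set X) → ∀ x ∈ Z, ∃ y ∈ Z, y ∈ U ∧ y ⤳ x := by
  classical
  obtain ⟨C, hCf, hCc, hCi, hC⟩ := NoetherianSpace.exists_finite_set_isClosed_irreducible hZ
  have hp : ∀ t : C, ∃ p : X, p ∈ t.1 ∧ IsClosed ({p} : Set X) := fun t =>
    (hCc t.1 t.2).exists_closed_singleton (hCi t.1 t.2).nonempty
  choose p hp1 hp2 using hp
  have : Finite C := hCf
  refine ⟨Set.range p, Set.finite_range p, ?_, ?_⟩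
  · rintro _ ⟨t, rfl⟩
    exact hp2 t
  · intro U hU x hx
    rw [hC] at hx
    obtain ⟨t, htC, hxt⟩ := hx
    let y := (hCi t htC).genericPoint
    have hy : closure {y} = t := (hCi t htC).closure_genericPoint (hCc t htC)
    have hyt : y ∈ t := by rw [← hy]; exact subset_closure rfl
    refine ⟨y, ?_, ?_, ?_⟩
    · rw [hC]; exact ⟨t, htC, hyt⟩
    · have h1 : y ⤳ p ⟨t, htC⟩ := by
        rw [specializes_iff_mem_closure, hy]
        exact hp1 ⟨t, htC⟩
      exact h1.mem_open U.isOpen (hU ⟨_, rfl⟩)
    · rw [specializes_iff_mem_closure, hy]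
      exact hxt

/-- `U` is in general position with respect to the finite family `s`. -/
def Gen (s : Finset X.Opens) (U : X.Opens) : Prop :=
  ∀ s' ⊆ s, ∀ x : X, (∀ V ∈ s', x ∉ V) → ∃ y : X, (∀ V ∈ s', y ∉ V) ∧ y ∈ U ∧ y ⤳ x

variable [IsNoetherian X]
  (hX : ∀ S : Set X, S.Finite → (∀ x ∈ S, IsClosed ({x} : Set X)) → ∃ U : X.Opens, IsAffineOpen U ∧ S ⊆ (U : Set X))

include hX

theorem exists_gen (s : Finset X.Opens) : ∃ U : X.Opens, IsAffineOpen U ∧ Gen s U := by
  classical
  have hZ : ∀ s' : Finset X.Opens, IsClosed {x : X | ∀ V ∈ s', x ∉ V} := by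
    intro s'
    have : {x : X | ∀ V ∈ s', x ∉ V} = ⋂ V ∈ s', (V : Set X)ᶜ := by
      ext x; simp
    rw [this]
    exact isClosed_biInter fun V _ => V.isOpen.isClosed_compl
  choose S hSf hSc hS using fun s' : Finset X.Opens => exists_points _ (hZ s')
  obtain ⟨U, hU, hSU⟩ := hX (⋃ s' ∈ s.powerset, S s') (by
      refine Set.Finite.biUnion (Finset.finite_toSet _) fun s' _ => hSf s') (by
      intro x hx
      simp only [Set.mem_iUnion] at hx
      obtain ⟨s', -, hx⟩ := hx
      exact hSc s' x hx)
  refine ⟨U, hU, fun s' hs' x hx => ?_⟩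
  obtain ⟨y, hy1, hy2, hy3⟩ := hS s' U (by
    intro z hz
    apply hSU
    simp only [Set.mem_iUnion]
    exact ⟨s', Finset.mem_powerset.mpr hs', hz⟩) x hx
  exact ⟨y, hy1, hy2, hy3⟩

open Classical in
/-- A sequence of affine opens in general position. -/
theorem exists_seq [Nonempty X] (n : ℕ) (hn : topologicalKrullDim X ≤ n) :
    ∃ U : ℕ → X.Opens, (∀ i, IsAffineOpen (U i)) ∧ (∀ i, (U i : Set X).Nonempty) ∧
      ∀ (x : X) (t : Finset ℕ), (∀ i ∈ t, x ∉ U i) → t.card ≤ n := by
  choose c hc1 hc2 using exists_gen hX
  let F : ℕ → Finset X.Opens := fun m => Nat.rec ∅ (fun _ s => insert (c s) s) m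
  have hF : ∀ m, F (m + 1) = insert (c (F m)) (F m) := fun m => rfl
  have hmem : ∀ i m, i < m → c (F i) ∈ F m := by
    intro i m hm
    induction m with
    | zero => omega
    | succ m ih =>
      rw [hF, Finset.mem_insert]
      rcases Nat.lt_succ_iff_lt_or_eq.mp hm with h | h
      · exact Or.inr (ih h)
      · subst h; exact Or.inl rfl
  refine ⟨fun m => c (F m), fun m => hc1 _, fun m => ?_, fun x t hx => ?_⟩
  · obtain ⟨y, -, hy, -⟩ := hc2 (F m) ∅ (Finset.empty_subset _) (Classical.arbitrary X) (by simp)
    exact ⟨y, hy⟩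
  · have key : ∀ t : Finset ℕ, ∀ x : X, (∀ i ∈ t, x ∉ c (F i)) →
        ∃ p : LTSeries (IrreducibleCloseds X), (p.head : Set X) = closure {x} ∧ p.length = t.card := by
      intro t
      induction t using Finset.induction_on_max with
      | empty =>
        intro x _
        exact ⟨RelSeries.singleton _ ⟨closure {x}, isIrreducible_singleton.closure, isClosed_closure⟩, rfl, rfl⟩
      | insert a s hlt ih =>
        intro x hx
        obtain ⟨y, hy1, hy2, hy3⟩ := hc2 (F a) (s.image fun i => c (F i)) (by
          intro V hV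
          obtain ⟨i, hi, rfl⟩ := Finset.mem_image.mp hV
          exact hmem i a (hlt i hi)) x (by
          intro V hV
          obtain ⟨i, hi, rfl⟩ := Finset.mem_image.mp hV
          exact hx i (Finset.mem_insert_of_mem hi))
        obtain ⟨p, hp1, hp2⟩ := ih y (fun i hi => hy1 _ (Finset.mem_image.mpr ⟨i, hi, rfl⟩))
        let Z : IrreducibleCloseds X := ⟨closure {x}, isIrreducible_singleton.closure, isClosed_closure⟩
        have hlt' : Z < p.head := by
          refine lt_of_le_of_ne ?_ ?_
          · change closure {x} ⊆ (p.head : Set X)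
            rw [hp1]
            exact closure_minimal (Set.singleton_subset_iff.mpr (specializes_iff_mem_closure.mp hy3)) isClosed_closure
          · intro heq
            have h1 : (closure {x} : Set X) = closure {y} := by rw [← hp1, ← heq]; rfl
            have h2 : x = y := by
              have h3 : x ⤳ y := by
                rw [specializes_iff_mem_closure, h1]; exact subset_closure rfl
              exact (h3.antisymm hy3).eq
            subst h2
            exact hx a (Finset.mem_insert_self _ _) hy2
        refine ⟨p.cons Z hlt', ?_, ?_⟩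
        · rw [RelSeries.head_cons]; rfl
        · rw [RelSeries.cons_length, hp2, Finset.card_insert_of_notMem]
          intro ha
          exact lt_irrefl _ (hlt a ha)
    obtain ⟨p, -, hp⟩ := key t x hx
    have h1 := (Order.LTSeries.length_le_krullDim p).trans hn
    rw [hp] at h1
    exact_mod_cast h1

end K948.GenPos

namespace K948.GenPos

/-- The section of an invertible module with given affine non-vanishing locus. -/
theorem exists_section (X : Scheme.{u}) [IsIntegral X] [IsNoetherian X] [X.IsSeparated]
    (hreg : ∀ x : X, IsRegularLocalRing (X.presheaf.stalk x)) (V : X.Opens) (hV : IsAffineOpen V)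
    (hne : (V : Set X).Nonempty) :
    ∃ (L : X.Modules) (_ : PicF.IsInvertible L) (s : Coh.structureModule X ⟶ L), CohB1.genLocus L s = V := by
  have hdense : Dense (V : Set X) := V.2.dense hne
  obtain ⟨D, hD, hsupp⟩ := Groth.Agent.S1572.result X V hV hdense
    (fun y _ => Groth.Agent.S2821.result (X.presheaf.stalk y))
  have hker : D.subschemeι.ker = D := D.ker_subschemeι
  have hD' : BlowUp.IsEffCartierIdeal D.subschemeι.ker := hker.symm ▸ hD
  obtain ⟨s, hs⟩ := Groth.Agent.Dix.Cast5.exists_section D.subschemeι hD'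
  refine ⟨_, Groth.Agent.Grpsch.PicGrp.isInvertible_dual (Groth.Agent.Dix.IdealModCartier.isInvertible_idealMod hD'), s, ?_⟩
  apply Opens.ext
  rw [hs, D.range_subschemeι, hsupp, compl_compl]

end K948.GenPos
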