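import Groth.Agent.Variety.K948.Tverberg
import Groth.Agent.Variety.K948.GenPos
import Groth.Agent.Variety.K424.NakMain
import Groth.Agent.Pic13.H950.Curves
import Groth.Agent.FGA.K278.NumZero
import Groth.Agent.S2508

/-!
# The Chevalley–Kleiman criterion

`X` proper over a field `k`, regular, such that every finite set of closed points lies in an affine open: then `X`
carries an ample invertible module.
-/

set_option autoImplicit false
universe u
open CategoryTheory CategoryTheory.Limits AlgebraicGeometry TopologicalSpace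

namespace K948.KleimanChev

open Groth.Agent Groth.Agent.Fga Groth.Agent.Fga.PicMon Groth.Agent.Fga.RegSec Groth.Agent.Fdesc.LocGen
  Groth.Agent.Grpsch.PicGrp K909.InterML K909.Kleiman Groth.Agent.Pic13.H970.IntForm
  Groth.Agent.Pic13.H950.NumCl

/-! ### Associated points of the structure sheaf of an integral closed subscheme -/

theorem mem_ass_structureModule {T : Scheme.{u}} [IsIntegral T] {x : T}
    (hx : x ∈ AssSch.Ass (Coh.structureModule T)) : x = genericPoint T := by
  have h1 : IsAssociatedPrime (IsLocalRing.maximalIdeal (T.presheaf.stalk x)) (T.presheaf.stalk x) :=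
    (Fdesc.StructMod.stalkEquiv x).isAssociatedPrime_iff.mpr hx
  obtain ⟨-, a, ha⟩ := h1
  have hm : IsLocalRing.maximalIdeal (T.presheaf.stalk x) = ⊥ := by
    rw [eq_bot_iff]
    intro r hr
    have hr' := hr
    rw [ha] at hr'
    obtain ⟨n, hn⟩ := hr'
    rw [Submodule.mem_colon_singleton, Submodule.mem_bot, smul_eq_mul, mul_eq_zero] at hn
    rcases hn with hn | hn
    · exact (Submodule.mem_bot _).mpr (IsReduced.eq_zero _ ⟨n, hn⟩)
    · exfalso
      have h3 : (1 : T.presheaf.stalk x) ∈ IsLocalRing.maximalIdeal (T.presheaf.stalk x) := by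
        rw [ha]
        refine ⟨1, ?_⟩
        rw [Submodule.mem_colon_singleton, hn, smul_zero]
        exact Submodule.zero_mem _
      exact (IsLocalRing.maximalIdeal.isMaximal _).ne_top ((Ideal.eq_top_iff_one _).mpr h3)
  have h1 : genericPoint T ∈ Set.range (T.fromSpecStalk x) := by
    rw [Scheme.range_fromSpecStalk]
    exact genericPoint_specializes x
  obtain ⟨p, hp⟩ := h1
  have h2 : p = IsLocalRing.closedPoint (T.presheaf.stalk x) := by
    apply PrimeSpectrum.ext
    have h3 : p.asIdeal ≤ IsLocalRing.maximalIdeal (T.presheaf.stalk x) := IsLocalRing.le_maximalIdeal p.isPrime.ne_top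
    change p.asIdeal = IsLocalRing.maximalIdeal (T.presheaf.stalk x)
    rw [hm] at h3 ⊢
    exact le_bot_iff.mp h3
  rw [← hp, h2, Scheme.fromSpecStalk_closedPoint]

theorem ass_OZ {X V : Scheme.{u}} [IsLocallyNoetherian X] [IsLocallyNoetherian V] [IsIntegral V] (i : V ⟶ X)
    [IsClosedImmersion i] {x : X} (hx : x ∈ AssSch.Ass (OZ i)) : x = i (genericPoint V) := by
  obtain ⟨y, hy, rfl⟩ := S2508.result i (Coh.structureModule V) (Fdesc.StructMod.isCoh_structureModule V).1 hx
  rw [mem_ass_structureModule hy]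

/-! ### Points with closure of top dimension -/

theorem exists_point {X : Type u} [TopologicalSpace X] [QuasiSober X] (T : Set X) (hT : IsClosed T) (r : ℕ)
    (hr : topologicalKrullDim T = ((r + 1 : ℕ) : WithBot ℕ∞)) :
    ∃ y ∈ T, topologicalKrullDim (closure {y} : Set X) = ((r + 1 : ℕ) : WithBot ℕ∞) := by
  obtain ⟨Z, hZ, hZdim⟩ : ∃ Z ∈ irreducibleComponents T, ((r + 1 : ℕ) : WithBot ℕ∞) ≤ topologicalKrullDim Z := by
    by_contra hcon
    push Not at hcon
    have : topologicalKrullDim T ≤ (r : WithBot ℕ∞) := by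
      rw [VarietyB.DimTop.topologicalKrullDim_eq_iSup_irreducibleComponents (X := T)]
      exact iSup_le fun Z => DimCut.le_of_not_succ_le (not_le.mpr (hcon Z.1 Z.2))
    rw [hr] at this
    have h2 : r + 1 ≤ r := by exact_mod_cast this
    omega
  let C : Set X := Subtype.val '' Z
  have hCcl : IsClosed C := hT.isClosedEmbedding_subtypeVal.isClosedMap _ (isClosed_of_mem_irreducibleComponents Z hZ)
  have hCirr : IsIrreducible C := hZ.1.image _ continuous_subtype_val.continuousOn
  have hy : closure {hCirr.genericPoint} = C := hCirr.closure_genericPoint hCcl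
  have hCT : C ⊆ T := by rintro _ ⟨t, -, rfl⟩; exact t.2
  refine ⟨hCirr.genericPoint, hCT (hy.le (subset_closure rfl)), ?_⟩
  rw [hy]
  refine le_antisymm ((DimLt.topologicalKrullDim_mono hCT).trans hr.le) (hZdim.trans ?_)
  let g : Z → C := fun z => ⟨z.1, z.1, z.2, rfl⟩
  have hg : Topology.IsInducing g := by
    have e : Topology.IsInducing (fun z : Z => ((z : T) : X)) :=
      Topology.IsInducing.subtypeVal.comp Topology.IsInducing.subtypeVal
    exact (Topology.IsInducing.subtypeVal.of_comp_iff (f := g)).mp e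
  exact hg.topologicalKrullDim_le

/-! ### Strict positivity is tested on integral closed subschemes -/

theorem pos_of_integral {X : Scheme.{u}} [IsNoetherian X] (φ : X.Modules → ℤ) (hφ : ChiBasic.IsAdd φ) (r : ℕ)
    (hvan : ∀ F : X.Modules, Coh.IsCoh F → topologicalKrullDim (CohB1.support F) < ((r + 1 : ℕ) : WithBot ℕ∞) → φ F = 0)
    (hint : ∀ (Z : Scheme.{u}) (i : Z ⟶ X) [IsClosedImmersion i] [IsIntegral Z],
      topologicalKrullDim Z = ((r + 1 : ℕ) : WithBot ℕ∞) → 0 < φ (OZ i))
    (F : X.Modules) (hF : Coh.IsCoh F) (hr : topologicalKrullDim (CohB1.support F) = ((r + 1 : ℕ) : WithBot ℕ∞)) :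
    0 < φ F := by
  classical
  have hTc := Ega3B.Devissage.isClosed_support hF
  choose Z i hi hZ hgen hrange using fun y : X => IntegralSub.exists_integral_closed y
  have hfin := K909.DevNonneg.finite_top (CohB1.support F) hTc (r + 1) hr.le
  have h := K909.DevNonneg.length_sum φ hφ (r + 1) hvan (CohB1.support F) hTc hr.le hfin.toFinset (fun y => by simp)
    (fun y => OZ (i y))
    (fun y _ => by
      have := hi y
      exact CycB.ClosSheaf.isCoh_push_structureModule (i y))
    (fun y _ => by
      have := hi y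
      rw [← hrange y]
      exact CohqB.DevSimple.support_push_subset_range (i y) _)
    (fun y _ => by
      have := hi y
      have := hZ y
      have hne : Nonempty ((⊤ : (Z y).Opens) : Scheme.{u}) := ⟨⟨genericPoint (Z y), trivial⟩⟩
      have h := CohqB.DevSimple.isSimpleModule_stalk_push (i y) (Coh.structureModule (Z y)) ⊤
        ⟨Scheme.Modules.restrictUnitIso _⟩
      rw [hgen y] at h
      exact h) F hF subset_rfl
  rw [h.2]
  obtain ⟨y₀, hy₀, hy₀'⟩ := exists_point (CohB1.support F) hTc r hr
  refine Finset.sum_pos (fun y hy => mul_pos ?_ ?_) ⟨y₀, (Set.Finite.mem_toFinset _).mpr ⟨hy₀, hy₀'⟩⟩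
  · have h1 := h.1 y hy
    have h2 : MultForm.len F y ≠ 0 := MultForm.len_pos ((Set.Finite.mem_toFinset _).mp hy).1
    have h3 : (MultForm.len F y).toNat ≠ 0 := by
      rw [Ne, ENat.toNat_eq_zero]
      exact not_or.mpr ⟨h2, h1⟩
    omega
  · have hy2 : topologicalKrullDim (closure {y} : Set X) = ((r + 1 : ℕ) : WithBot ℕ∞) :=
      ((Set.Finite.mem_toFinset _).mp hy).2
    have := hi y
    have := hZ y
    refine hint (Z y) (i y) ?_
    rw [← hy2, ← hrange y]
    exact IsHomeomorph.topologicalKrullDim_eq _ (i y).isClosedEmbedding.isEmbedding.toHomeomorph.isHomeomorph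

section main

variable (k : Type u) [Field k] (X : Scheme.{u}) [X.Over (Spec (CommRingCat.of k))]
  [IsProper (X ↘ Spec (CommRingCat.of k))] (d : ℕ) (hd : topologicalKrullDim X ≤ d)

include hd

/-- Cutting by a section. -/
theorem cut {B : X.Modules} (hB : PicF.IsInvertible B) (s : Coh.structureModule X ⟶ B) {F : X.Modules}
    (hF : Coh.IsCoh F) (hAss : AssSch.Ass F ⊆ CohB1.genLocus B s) :
    ∃ G : X.Modules, Coh.IsCoh G ∧ CohB1.support G = CohB1.support F \ CohB1.genLocus B s ∧
      ∀ {r : ℕ} (c : Fin r → Pic X), inter k X d F (Fin.cons (mk B hB) c : Fin (r + 1) → Pic X) = inter k X d G c := by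
  have := Fga.IntAdd.isNoetherian k X
  have hP : PicF.IsInvertible (dual B) := isInvertible_dual hB
  have hmul : mk B hB * mk (dual B) hP = 1 := by rw [← inv_mk hB, mul_inv_cancel]
  have hPN : mc (dual B) * mc B = 1 := by
    have := congrArg (toMC X) hmul
    rw [map_mul, map_one] at this
    rw [mul_comm]
    exact this
  have hinv : (mk B hB)⁻¹ = mk (dual B) hP := rfl
  generalize dual B = P at *
  have hNF : Coh.IsCoh (CohB1.tensorMod B F) :=
    Sga67.CohBasic.isCoh_of_iso (Ega2.Tens.swap F _) (Fga.TwistCoh.isCoh_tensor hF hB)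
  have hmono : Mono (mulS s F) := mulS_mono s F hF (Sga67.CohBasic.isCoh_kernel _ hF hNF.1).1 hAss
  have hC : Coh.IsCoh (cokernel (mulS s F)) := Sga67.CohBasic.isCoh_cokernel _ hF.1 hNF
  have hS : (ShortComplex.mk (mulS s F) (cokernel.π (mulS s F)) (cokernel.condition _)).ShortExact :=
    { exact := ShortComplex.exact_cokernel _
      mono_f := hmono
      epi_g := inferInstanceAs (Epi (cokernel.π (mulS s F))) }
  refine ⟨CohB1.tensorMod P (cokernel (mulS s F)),
    Sga67.CohBasic.isCoh_of_iso (Ega2.Tens.swap _ _) (Fga.TwistCoh.isCoh_tensor hC hP),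
    by rw [Fga.PosMain.support_tensor X hP hB hPN, support_cokernel_mulS s F hB hF.2], fun {r} c => ?_⟩
  have hadd := Fga.IntAdd.isAdd_tensor X (isAdd_inter k X d hd c) hP _ hS hF hNF hC
  have hiso : inter k X d (CohB1.tensorMod P (CohB1.tensorMod B F)) c = inter k X d F c := by
    obtain ⟨e⟩ := (mc_eq_iff (CohB1.tensorMod P (CohB1.tensorMod B F)) F).mp (by
      rw [mc_tensor, mc_tensor, ← mul_assoc, hPN, one_mul])
    exact inter_iso k X d _ e c
  simp only at hadd
  rw [hiso] at hadd
  have h1 := I_cons_mk k X d F hP (fun i => (c i)⁻¹)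
  rw [inter_cons, hinv, h1]
  change inter k X d F c - inter k X d (CohB1.tensorMod P F) c = _
  rw [hadd]
  ring

/-- Additivity in the first entry, over products. -/
theorem inter_cons_prod {F : X.Modules} (hF : Coh.IsCoh F) {r : ℕ}
    (hr : topologicalKrullDim (CohB1.support F) ≤ (r + 1 : ℕ)) {ι : Type*} (t : Finset ι) (e : ι → Pic X) (a : ι → ℕ)
    (c : Fin r → Pic X) :
    inter k X d F (Fin.cons (∏ j ∈ t, e j ^ a j) c : Fin (r + 1) → Pic X) =
      ∑ j ∈ t, (a j : ℤ) * inter k X d F (Fin.cons (e j) c : Fin (r + 1) → Pic X) := by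
  let ψ : Additive (Pic X) →+ ℤ := AddMonoidHom.mk' (fun x => inter k X d F (Fin.cons x.toMul c : Fin (r + 1) → Pic X))
    (fun x y => by
      rw [toMul_add]
      exact inter_cons_mul k X d hd F hF _ _ _ hr)
  have h1 : inter k X d F (Fin.cons (∏ j ∈ t, e j ^ a j) c : Fin (r + 1) → Pic X) =
      ψ (Additive.ofMul (∏ j ∈ t, e j ^ a j)) := rfl
  rw [h1, ofMul_prod, map_sum]
  refine Finset.sum_congr rfl fun j _ => ?_
  rw [ofMul_pow, map_nsmul, nsmul_eq_mul]
  rfl

/-- Numerically equal classes have equal intersection numbers. -/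
theorem inter_congr_num {F : X.Modules} (hF : Coh.IsCoh F) {r : ℕ}
    (hr : topologicalKrullDim (CohB1.support F) ≤ (r + 1 : ℕ)) {a b : Pic X} (hab : a * b⁻¹ ∈ numCl k X)
    (c : Fin r → Pic X) :
    inter k X d F (Fin.cons a c : Fin (r + 1) → Pic X) = inter k X d F (Fin.cons b c : Fin (r + 1) → Pic X) := by
  have hz : ∀ x : Pic X, x ∈ numCl k X → inter k X d F (Fin.cons x c : Fin (r + 1) → Pic X) = 0 := by
    intro x hx
    obtain ⟨L, hL, h⟩ := exists_mk x⁻¹
    have hx' : mk L hL ∈ numCl k X := by rw [← h]; exact inv_mem hx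
    have h1 := K278.NumZero.stmt (k := k) r X d hd L hL ((mem_numCl_iff k X hL).mp hx') (fun i => (c i)⁻¹) F hF hr
    rw [inter_cons, h]
    exact h1
  have h2 : a = (a * b⁻¹) * b := by rw [inv_mul_cancel_right]
  rw [h2, inter_cons_mul k X d hd F hF _ _ _ hr, hz _ hab, zero_add]

/-- The induction. -/
theorem pos_of_data (n : ℕ) (U : ℕ → X.Opens) (hU : ∀ i, IsAffineOpen (U i))
    (hgp : ∀ (x : X) (t : Finset ℕ), (∀ i ∈ t, x ∉ U i) → t.card ≤ n)
    (L : ℕ → X.Modules) (hL : ∀ i, PicF.IsInvertible (L i)) (s : ∀ i, Coh.structureModule X ⟶ L i)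
    (hs : ∀ i, CohB1.genLocus (L i) (s i) = U i)
    (a : Fin (n + 1) → ℕ →₀ ℕ) (ha : ∀ l, a l ≠ 0) (hdisj : ∀ l l', l ≠ l' → Disjoint (a l).support (a l').support)
    (m : Pic X) (hm : ∀ l, m * (∏ j ∈ (a l).support, mk (L j) (hL j) ^ (a l j))⁻¹ ∈ numCl k X) (r : ℕ) :
    ∀ F : X.Modules, Coh.IsCoh F → topologicalKrullDim (CohB1.support F) = r →
      0 < inter k X d F (fun _ : Fin r => m) := by
  classical
  have hNoeth := Fga.IntAdd.isNoetherian k X
  induction r with
  | zero =>
    intro F hF hdim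
    rw [inter_zero]
    exact PosZero.euler_pos k X d F hF (by simpa using hdim)
  | succ r ih =>
    refine pos_of_integral (fun G => inter k X d G (fun _ : Fin (r + 1) => m)) (isAdd_inter k X d hd _) r
      (fun G hG hdim => inter_eq_zero k X d hd G hG _ hdim) ?_
    intro V i _ _ hV
    have hVn : IsLocallyNoetherian V := LocallyOfFiniteType.isLocallyNoetherian i
    have hcoh : Coh.IsCoh (OZ i) := isCoh_OZ i
    have hdimV : topologicalKrullDim (CohB1.support (OZ i)) = ((r + 1 : ℕ) : WithBot ℕ∞) := by rw [dim_OZ, hV]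
    set x : X := i (genericPoint V) with hx
    -- choose the good index
    obtain ⟨l, hl⟩ : ∃ l : Fin (n + 1), ∀ j ∈ (a l).support, x ∈ U j := by
      by_contra hcon
      push Not at hcon
      choose j hj hxj using hcon
      have hinj : Function.Injective j := by
        intro l l' hll
        by_contra hne
        exact Finset.disjoint_left.mp (hdisj l l' hne) (hj l) (hll ▸ hj l')
      have h1 := hgp x (Finset.univ.image j) (by
        intro t ht
        obtain ⟨l, -, rfl⟩ := Finset.mem_image.mp ht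
        exact hxj l)
      rw [Finset.card_image_of_injective _ hinj, Finset.card_univ, Fintype.card_fin] at h1
      omega
    have e0 : (fun _ : Fin (r + 1) => m) = (Fin.cons m (fun _ : Fin r => m) : Fin (r + 1) → Pic X) := by
      funext i
      cases i using Fin.cases with
      | zero => rfl
      | succ i => rfl
    change 0 < inter k X d (OZ i) (fun _ : Fin (r + 1) => m)
    rw [e0, inter_congr_num k X d hd hcoh hdimV.le (hm l), inter_cons_prod k X d hd hcoh hdimV.le]
    refine Finset.sum_pos (fun j hj => mul_pos ?_ ?_) (Finsupp.support_nonempty_iff.mpr (ha l))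
    · have := Finsupp.mem_support_iff.mp hj
      omega
    · have hxU : x ∈ U j := hl j hj
      obtain ⟨G, hG, hGs, hGi⟩ := cut k X d hd (hL j) (s j) hcoh (by
        intro y hy
        rw [ass_OZ i hy, hs j]
        exact hxU)
      rw [hGi]
      refine ih G hG ?_
      rw [hGs, hs j]
      have hirr : IsIrreducible (CohB1.support (OZ i)) := by
        rw [support_OZ, ← Set.image_univ]
        exact ((irreducibleSpace_def V).mp inferInstance).image _ i.continuous.continuousOn
      have : IrreducibleSpace (CohB1.support (OZ i)) := Subtype.irreducibleSpace hirr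
      have hxs : x ∈ CohB1.support (OZ i) := by rw [support_OZ]; exact ⟨_, rfl⟩
      refine DimCut.dim_cut k X _ (Ega3B.Devissage.isClosed_support hcoh) r hdimV (U j) (hU j) ?_ ?_
      · intro y hy
        rw [← hs j] at hy ⊢
        obtain ⟨W, hyW, e, b, -, -, h, -⟩ := exists_gen_of_not_mem (s j) (hL j) hy
        exact ⟨W, hyW, b, h⟩
      · intro Z hZ
        rw [irreducibleComponents_eq_singleton] at hZ
        rw [Set.mem_singleton_iff.mp hZ]
        exact ⟨⟨x, hxs⟩, trivial, hxU⟩

end main

/-- **The Chevalley–Kleiman criterion**, existence of an ample module. -/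
theorem exists_isAmple (k : Type u) [Field k] [IsAlgClosed k] (X : Scheme.{u})
    [X.Over (Spec (CommRingCat.of k))] [IsProper (X ↘ (Spec (CommRingCat.of k)))] [IsIntegral X]
    (hreg : ∀ x : X, IsRegularLocalRing (X.presheaf.stalk x))
    (hX : ∀ S : Set X, S.Finite → (∀ x ∈ S, IsClosed ({x} : Set X)) →
        ∃ U : X.Opens, IsAffineOpen U ∧ S ⊆ (U : Set X)) : ∃ L : X.Modules, CohB1.IsAmple L := by
  classical
  have := HypSec.isNoetherian k X
  have := HypSec.isSeparated k X
  have hne : Nonempty X := ⟨genericPoint X⟩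
  obtain ⟨d, hd⟩ := EtpbcA.CdFinDim.exists_dim_le (X ↘ Spec (CommRingCat.of k))
  obtain ⟨U, hU, hUne, hgp⟩ := GenPos.exists_seq hX d hd
  choose L hL s hs using fun i => GenPos.exists_section X hreg (U i) (hU i) (hUne i)
  obtain ⟨p, C, hC⟩ := Pic13.H950.Curves.exists_curves k X
  obtain ⟨a, ha, hdisj, hval⟩ := Tverberg.exists_sys (fun i : ℕ => fun j : Fin p => dgc k X (C j) (mk (L i) (hL i))) (d + 1)
  let M : Fin (d + 1) → Pic X := fun l => ∏ j ∈ (a l).support, mk (L j) (hL j) ^ (a l j)
  have hdeg : ∀ (l : Fin (d + 1)) (j : Fin p), dgc k X (C j) (M l) =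
      (a l).sum fun i t => t • dgc k X (C j) (mk (L i) (hL i)) := by
    intro l j
    have h1 : dgc k X (C j) (M l) = degOn k X (C j) (Additive.ofMul (M l)) := rfl
    rw [h1, ofMul_prod, map_sum, Finsupp.sum]
    refine Finset.sum_congr rfl fun i _ => ?_
    rw [ofMul_pow, map_nsmul]
    rfl
  have hm : ∀ l, M 0 * (M l)⁻¹ ∈ numCl k X := by
    intro l
    refine hC _ fun j => ?_
    have h2 := congrFun (hval 0 l) j
    simp only [Finsupp.sum, Finset.sum_apply, Pi.smul_apply] at h2
    rw [dgc_mul, dgc_inv, hdeg, hdeg, Finsupp.sum, Finsupp.sum, h2, add_neg_cancel]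
  obtain ⟨A, hA, hAM⟩ := exists_mk (M 0)
  refine ⟨A, K424.NakMain.nak k X d hd A hA fun V i _ _ r _ hV => ?_⟩
  rw [← hAM]
  refine pos_of_data k X d hd d U hU hgp L hL s hs a ha hdisj (M 0) hm r (OZ i) (isCoh_OZ i) ?_
  rw [dim_OZ, hV]

end K948.KleimanChev
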