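import Mathlib.LinearAlgebra.LinearIndependent.Basic
import Mathlib.LinearAlgebra.FreeModule.PID
import Mathlib.LinearAlgebra.Finsupp.LinearCombination
import Mathlib.RingTheory.Noetherian.Basic
import Mathlib.RingTheory.PrincipalIdealDomain
import Mathlib.Algebra.EuclideanDomain.Int
import Mathlib.Data.Finsupp.Order
import Mathlib.Algebra.Order.BigOperators.Group.Finset

/-!
# An integral Tverberg theorem for infinite families

`v : ι → V`, `ι` infinite, `V` a finitely generated abelian group.  For every `r` there are `r` non-zero elements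
`a k : ι →₀ ℕ` with pairwise disjoint supports such that `∑ a k i • v i` does not depend on `k`.
-/

set_option autoImplicit false

open Finsupp

namespace K948.Tverberg

variable {ι V : Type*} [AddCommGroup V]

/-- The lifted family `(v, 1)`. -/
def lft (v : ι → V) (i : ι) : V × ℤ := (v i, 1)

/-- The value of `a`. -/
noncomputable def val (v : ι → V) : (ι →₀ ℕ) →ₗ[ℕ] V × ℤ := Finsupp.linearCombination ℕ (lft v)

theorem val_snd (v : ι → V) (a : ι →₀ ℕ) : (val v a).2 = a.sum fun _ n => (n : ℤ) := by
  rw [val, Finsupp.linearCombination_apply, Finsupp.sum, Finsupp.sum, Prod.snd_sum]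
  refine Finset.sum_congr rfl fun i _ => ?_
  simp [lft]

theorem eq_zero_of_val (v : ι → V) {a : ι →₀ ℕ} (h : (val v a).2 = 0) : a = 0 := by
  rw [val_snd, Finsupp.sum] at h
  have h1 := (Finset.sum_eq_zero_iff_of_nonneg (fun i _ => Int.natCast_nonneg (a i))).1 h
  ext i
  by_cases hi : i ∈ a.support
  · exact_mod_cast h1 i hi
  · simpa using hi

/-- A system of disjoint combinations with the same value. -/
structure Sys (v : ι → V) (T : Finset ι) {κ : Type*} (a : κ → ι →₀ ℕ) : Prop where
  ne_zero : ∀ k, a k ≠ 0
  disj : ∀ k, Disjoint (a k).support T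
  pair : ∀ k l, k ≠ l → Disjoint (a k).support (a l).support
  val_eq : ∀ k l, val v (a k) = val v (a l)

/-- There are systems indexed by `κ` away from every finite set. -/
def Has (v : ι → V) (κ : Type*) : Prop := ∀ T : Finset ι, ∃ a : κ → ι →₀ ℕ, Sys v T a

theorem has_unit [Infinite ι] (v : ι → V) : Has v Unit := by
  intro T
  obtain ⟨i, hi⟩ := Infinite.exists_notMem_finset T
  refine ⟨fun _ => Finsupp.single i 1, ⟨fun _ => by simp, fun _ => ?_, fun k l h => absurd rfl h, fun _ _ => rfl⟩⟩
  rw [Finsupp.support_single_ne_zero _ one_ne_zero, Finset.disjoint_singleton_left]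
  exact hi

/-- Splitting an integral relation. -/
theorem exists_split {W : Type*} [AddCommGroup W] {s : Finset ℕ} {g : ℕ → ℤ} {w : ℕ → W}
    (h : ∑ j ∈ s, g j • w j = 0) :
    ∑ j ∈ s, (g j).toNat • w j = ∑ j ∈ s, (-g j).toNat • w j := by
  rw [← sub_eq_zero, ← Finset.sum_sub_distrib, ← h]
  refine Finset.sum_congr rfl fun j _ => ?_
  rw [← natCast_zsmul, ← natCast_zsmul, ← sub_smul]
  congr 1
  omega

theorem Has.double [Module.Finite ℤ V] {v : ι → V} {κ : Type*} [Finite κ] [Nonempty κ] (h : Has v κ) :
    Has v (κ × Bool) := by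
  classical
  intro T
  have := Fintype.ofFinite κ
  have : Std.Symm (fun a b : κ → ι →₀ ℕ => ∀ k l, Disjoint (a k).support (b l).support) :=
    ⟨fun a b h k l => (h l k).symm⟩
  obtain ⟨f, hf, hff⟩ := exists_seq_of_forall_finset_exists' (fun a : κ → ι →₀ ℕ => Sys v T a)
    (fun a b => ∀ k l, Disjoint (a k).support (b l).support) (h := fun s _ => by
      obtain ⟨a, ha⟩ := h (T ∪ s.biUnion fun b => Finset.univ.biUnion fun l => (b l).support)
      refine ⟨a, ⟨ha.ne_zero, fun k => (Finset.disjoint_union_right.1 (ha.disj k)).1, ha.pair, ha.val_eq⟩,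
        fun b hb k l => ?_⟩
      refine Disjoint.symm (Finset.disjoint_of_subset_right ?_ (Finset.disjoint_union_right.1 (ha.disj l)).2)
      exact (Finset.subset_biUnion_of_mem (fun l => (b l).support) (Finset.mem_univ k)).trans
        (Finset.subset_biUnion_of_mem (fun b => Finset.univ.biUnion fun l => (b l).support) hb))
  obtain ⟨k0⟩ := ‹Nonempty κ›
  let w : ℕ → V × ℤ := fun j => val v (f j k0)
  have hw : ∀ j k, val v (f j k) = w j := fun j k => (hf j).val_eq k k0
  have hN : IsNoetherian ℤ (V × ℤ) := isNoetherian_of_isNoetherianRing_of_finite ℤ _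
  have hli : ¬ LinearIndependent ℤ w := fun hli => by
    have : Finite ℕ := hli.finite_of_isNoetherian
    exact not_finite ℕ
  rw [not_linearIndependent_iff] at hli
  obtain ⟨s, g, hsum, j0, hj0, hgj0⟩ := hli
  let co : Bool → ℕ → ℕ := fun e j => if e then (g j).toNat else (-g j).toNat
  have hco : ∀ j, co true j = 0 ∨ co false j = 0 := fun j => by
    simp only [co, if_true, Bool.false_eq_true, if_false]
    omega
  have hcopos : co true j0 ≠ 0 ∨ co false j0 ≠ 0 := by
    simp only [co, if_true, Bool.false_eq_true, if_false]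
    omega
  let b : κ × Bool → ι →₀ ℕ := fun p => ∑ j ∈ s, co p.2 j • f j p.1
  have hval : ∀ k e, val v (b (k, e)) = ∑ j ∈ s, co e j • w j := fun k e => by
    simp only [b, map_sum, map_nsmul, hw]
  have hval2 : ∀ k l e e', val v (b (k, e)) = val v (b (l, e')) := fun k l e e' => by
    have h1 := exists_split hsum
    have h2 : ∀ e, val v (b (k0, e)) = val v (b (k0, true)) := by
      intro e
      cases e with
      | true => rfl
      | false =>
        rw [hval, hval]
        simp only [co, if_true, Bool.false_eq_true, if_false]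
        exact h1.symm
    have h3 : ∀ k e, val v (b (k, e)) = val v (b (k0, e)) := fun k e => by rw [hval, hval]
    rw [h3, h2, h3 l, h2 e']
  refine ⟨b, ⟨?_, ?_, ?_, fun p q => hval2 p.1 q.1 p.2 q.2⟩⟩
  · rintro ⟨k, e⟩ h0
    have h1 : ∀ e', b (k, e') = 0 := fun e' => eq_zero_of_val v (by
      rw [hval2 k k e' e, h0, map_zero]
      rfl)
    have h2 : ∀ e', co e' j0 = 0 := fun e' => by
      have h3 : ∑ j ∈ s, co e' j • f j k = 0 := h1 e'
      have h4 := (Finset.sum_eq_zero_iff.1 h3) j0 hj0
      rcases smul_eq_zero.1 h4 with h5 | h5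
      · exact h5
      · exact absurd h5 ((hf j0).ne_zero k)
    rcases hcopos with h3 | h3
    · exact h3 (h2 _)
    · exact h3 (h2 _)
  · rintro ⟨k, e⟩
    refine Finset.disjoint_of_subset_left (Finsupp.support_finsetSum) ?_
    rw [Finset.disjoint_biUnion_left]
    intro j _
    exact Finset.disjoint_of_subset_left Finsupp.support_smul ((hf j).disj k)
  · rintro ⟨k, e⟩ ⟨l, e'⟩ hne
    refine Finset.disjoint_of_subset_left (Finsupp.support_finsetSum)
      (Finset.disjoint_of_subset_right (Finsupp.support_finsetSum) ?_)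
    rw [Finset.disjoint_biUnion_left]
    intro j _
    rw [Finset.disjoint_biUnion_right]
    intro j' _
    by_cases hjj : j = j'
    · subst hjj
      by_cases hkl : k = l
      · subst hkl
        have hee : e ≠ e' := fun h => hne (by rw [h])
        have h1 : co e j = 0 ∨ co e' j = 0 := by
          cases e <;> cases e'
          · exact absurd rfl hee
          · exact (hco j).symm
          · exact hco j
          · exact absurd rfl hee
        rcases h1 with h1 | h1
        · simp only [h1, zero_smul, Finsupp.support_zero, Finset.disjoint_empty_left]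
        · simp only [h1, zero_smul, Finsupp.support_zero, Finset.disjoint_empty_right]
      · exact Finset.disjoint_of_subset_left Finsupp.support_smul
          (Finset.disjoint_of_subset_right Finsupp.support_smul ((hf j).pair k l hkl))
    · exact Finset.disjoint_of_subset_left Finsupp.support_smul
        (Finset.disjoint_of_subset_right Finsupp.support_smul (hff hjj k l))

theorem exists_has [Infinite ι] [Module.Finite ℤ V] (v : ι → V) (r : ℕ) :
    ∃ (κ : Type) (_ : Finite κ) (_ : Nonempty κ), r ≤ Nat.card κ ∧ Has v κ := by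
  induction r with
  | zero => exact ⟨Unit, inferInstance, inferInstance, Nat.zero_le _, has_unit v⟩
  | succ r ih =>
    obtain ⟨κ, h1, h2, h3, h4⟩ := ih
    refine ⟨κ × Bool, inferInstance, inferInstance, ?_, h4.double⟩
    have h5 : 0 < Nat.card κ := Nat.card_pos
    rw [Nat.card_prod]
    simp only [Nat.card_eq_fintype_card, Fintype.card_bool]
    omega

/-- Integral Tverberg theorem for an infinite family in a finitely generated abelian group. -/
theorem exists_sys [Infinite ι] [Module.Finite ℤ V] (v : ι → V) (r : ℕ) :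
    ∃ a : Fin r → ι →₀ ℕ, (∀ k, a k ≠ 0) ∧ (∀ k l, k ≠ l → Disjoint (a k).support (a l).support) ∧
      ∀ k l, (a k).sum (fun i n => n • v i) = (a l).sum (fun i n => n • v i) := by
  obtain ⟨κ, h1, h2, h3, h4⟩ := exists_has v r
  obtain ⟨a, ha⟩ := h4 ∅
  have := Fintype.ofFinite κ
  obtain ⟨e⟩ : Nonempty (Fin r ↪ κ) := by
    apply Function.Embedding.nonempty_of_card_le
    rwa [Fintype.card_fin, ← Nat.card_eq_fintype_card]
  refine ⟨fun k => a (e k), fun k => ha.ne_zero _, fun k l hkl => ha.pair _ _ fun h => hkl (e.injective h),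
    fun k l => ?_⟩
  have h5 := congrArg Prod.fst (ha.val_eq (e k) (e l))
  rw [val, Finsupp.linearCombination_apply, Finsupp.linearCombination_apply, Finsupp.sum, Finsupp.sum,
    Prod.fst_sum, Prod.fst_sum] at h5
  exact h5

end K948.Tverberg
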